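import Cfsg.Agent.S4441
import Cfsg.Agent.Blocks.LocalRing
import Cfsg.Agent.Blocks.Height
import Cfsg.Agent.PrincipalBlock.Basic
import Cfsg.Agent.Characters.Linear
import Mathlib.GroupTheory.Transfer

/-!
# Simple groups with a Sylow subgroup of order `p`

A nonabelian simple group with a Sylow `p`-subgroup of order `p`, `p` odd, has order at least
`p (p ^ 2 - 1) / 2`.
-/

set_option autoImplicit false
set_option linter.style.haveILetI false
set_option linter.unusedSectionVars false

namespace CfsgLib.SylowPrimeOrder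

open Cfsg CfsgLib.Blocks CfsgLib.PrincipalBlock

/-- A degree `≡ 1` divides `f (1 + k p)`: it is `1` or `1 + k p`. -/
theorem degree_eq_of_mod_one {p f k d v : ℕ} (hp : p.Prime) (hfk : 2 * f * k < p) (hf : 2 * f < p)
    (hf0 : 0 < f)
    (hdv : d * v = f * (1 + k * p)) (hd : (d : ℤ) ≡ 1 [ZMOD p]) : d = 1 ∨ d = 1 + k * p := by
  have h2 := hp.two_le
  have hd' : d % p = 1 % p := by exact_mod_cast hd
  rw [Nat.mod_eq_of_lt (by omega : 1 < p)] at hd'
  have hv : v % p = f := by
    have h := congrArg (fun n => n % p) hdv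
    simp only [Nat.mul_mod d v, hd', one_mul, Nat.mod_mod] at h
    rw [h, mul_add, mul_one, ← mul_assoc, Nat.add_mul_mod_self_right, Nat.mod_eq_of_lt (by omega)]
  obtain ⟨u, rfl⟩ : ∃ u, d = 1 + p * u := ⟨d / p, by
    conv_lhs => rw [← Nat.mod_add_div d p, hd']⟩
  obtain ⟨w, rfl⟩ : ∃ w, v = f + p * w := ⟨v / p, by
    conv_lhs => rw [← Nat.mod_add_div v p, hv]⟩
  have h : w + u * f + p * (u * w) = f * k := by
    have : p * (w + u * f + p * (u * w)) = p * (f * k) := by ring_nf; ring_nf at hdv; linarith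
    exact Nat.eq_of_mul_eq_mul_left hp.pos this
  rcases Nat.eq_zero_or_pos u with hu | hu
  · left; subst hu; simp
  right
  rcases Nat.eq_zero_or_pos w with hw | hw
  · subst hw
    have : u = k := Nat.eq_of_mul_eq_mul_right hf0 (by rw [mul_comm k f]; simpa using h)
    rw [this, mul_comm]
  · have : p * 1 ≤ p * (u * w) := Nat.mul_le_mul_left p (Nat.one_le_iff_ne_zero.2 (by positivity))
    rw [mul_one, mul_assoc] at *
    omega

/-- No degree is `≡ -1`. -/
theorem degree_mod_neg_one_false {p f k d v : ℕ} (hp : p.Prime) (hf : 2 * f < p)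
    (hlt : 2 * (f * (1 + k * p)) < p ^ 2 - 1) (hd0 : 0 < d) (hf0 : 0 < f)
    (hdv : d * v = f * (1 + k * p)) (hd : (d : ℤ) ≡ -1 [ZMOD p]) : False := by
  have h2 := hp.two_le
  obtain ⟨a, ha⟩ := Int.modEq_iff_dvd.1 hd.symm
  have hdp : p ≤ d + 1 :=
    Nat.le_of_dvd (by omega) (Int.natCast_dvd_natCast.1 ⟨a, by push_cast; linarith⟩)
  have hv : (p : ℤ) ∣ (v : ℤ) + f := by
    have h1 : ((d : ℤ) * v) = f * (1 + k * p) := by exact_mod_cast hdv
    exact ⟨a * v - f * k, by linear_combination (v : ℤ) * ha - h1⟩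
  have hvp : p ≤ v + f := Nat.le_of_dvd (by omega) (Int.natCast_dvd_natCast.1 (by exact_mod_cast hv))
  have : 2 * (d * v) < (p - 1) * (p + 1) := by
    rw [hdv]; rwa [show (p - 1) * (p + 1) = p ^ 2 - 1 by
      rw [show p ^ 2 - 1 = p ^ 2 - 1 ^ 2 by simp, Nat.sq_sub_sq, mul_comm]]
  have h3 : (p - 1) * (p + 1) ≤ d * (2 * v) := Nat.mul_le_mul (by omega) (by omega)
  rw [show 2 * (d * v) = d * (2 * v) by ring] at this
  omega

/-- A degree `≡ e` above `(e - 1) (1 + k p)` dividing `e c (1 + k p)` is `e (1 + k p)`. -/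
theorem degree_eq_of_mod {p e c k d v : ℕ} (hp : p.Prime) (he2 : 2 ≤ e) (hf : 2 * (e * c) < p)
    (hc : 0 < c) (hdv : d * v = e * c * (1 + k * p)) (hd : (d : ℤ) ≡ e [ZMOD p])
    (hlarge : (e - 1) * (1 + k * p) < d) : d = e * (1 + k * p) := by
  have h1 : (e - 1) * (1 + k * p) * v ≤ e * c * (1 + k * p) := hdv ▸ Nat.mul_le_mul_right v hlarge.le
  have h2 : (e - 1) * v ≤ e * c := by
    refine Nat.le_of_mul_le_mul_right ?_ (by omega : 0 < 1 + k * p)
    calc (e - 1) * v * (1 + k * p) = (e - 1) * (1 + k * p) * v := by ring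
      _ ≤ _ := h1
  have hvlt : v < p := by
    have : 1 * v ≤ (e - 1) * v := Nat.mul_le_mul_right v (by omega)
    omega
  have hclt : c < p := by
    have : 1 * c ≤ e * c := Nat.mul_le_mul_right c (by omega)
    omega
  have hz : ((d : ZMod p)) * v = (e : ZMod p) * c := by
    rw [← Nat.cast_mul, hdv]; push_cast; simp
  have hde : (d : ZMod p) = (e : ZMod p) := by
    have := (ZMod.intCast_eq_intCast_iff (d : ℤ) (e : ℤ) p).2 hd
    exact_mod_cast this
  rw [hde] at hz
  haveI := Fact.mk hp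
  have he0 : (e : ZMod p) ≠ 0 := by
    rw [Ne, ZMod.natCast_eq_zero_iff]
    intro h
    have : e * 1 ≤ e * c := Nat.mul_le_mul_left e hc
    have := Nat.le_of_dvd (by omega) h
    omega
  have hvc : v = c := by
    have := congrArg ZMod.val (mul_left_cancel₀ he0 hz)
    rwa [ZMod.val_natCast_of_lt hvlt, ZMod.val_natCast_of_lt hclt] at this
  subst hvc
  exact Nat.eq_of_mul_eq_mul_right hc (by rw [hdv]; ring)

universe u

variable {G : Type u} [Group G] [Fintype G]

/-- A nonabelian simple group has only one linear character. -/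
theorem eq_trivChar_of_degree_one [IsSimpleGroup G] (hna : ¬ IsMulCommutative G) {χ : IrrCharacter G}
    (h : Cfsg.charDegree (χ : G → ℂ) = 1) : χ = trivChar G := by
  have h1 : (χ : G → ℂ) 1 = 1 := by rw [← charDegree_cast, h, Nat.cast_one]
  obtain ⟨f, hf⟩ :=
    CfsgLib.Characters.exists_hom_of_degree_one (CfsgLib.Characters.isCharacter_of_isIrr χ.2) h1
  rcases (IsSimpleGroup.eq_bot_or_eq_top_of_normal f.ker inferInstance) with h2 | h2
  · refine absurd ⟨⟨fun a b => (MonoidHom.ker_eq_bot_iff f).1 h2 ?_⟩⟩ hna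
    rw [map_mul, map_mul, mul_comm]
  · refine Subtype.ext (funext fun g => ?_)
    rw [hf, trivChar_apply]
    have : f g = 1 := MonoidHom.mem_ker.1 (h2 ▸ Subgroup.mem_top g)
    simp [this]

/-- A nonabelian simple group with Sylow `p`-subgroups of order `p` has order at least
`p (p ^ 2 - 1) / 2`. -/
theorem simple_bound {p : ℕ} [Fact p.Prime] (hodd : p ≠ 2) [IsSimpleGroup G]
    (hna : ¬ IsMulCommutative G) (P : Sylow p G) (hP : Nat.card (P : Subgroup G) = p) :
    p * (p ^ 2 - 1) / 2 ≤ Nat.card G := by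
  classical
  have hp : p.Prime := Fact.out
  have h2 := hp.two_le
  obtain ⟨M, hM⟩ := exists_isPModular p hp
  haveI := hM.2.1.isPrime
  set N := Subgroup.normalizer ((P : Subgroup G) : Set G) with hN
  set C := Subgroup.centralizer ((P : Subgroup G) : Set G) with hC
  haveI : IsCyclic (P : Subgroup G) := isCyclic_of_prime_card hP
  have hCN : C ≤ N := Subgroup.centralizer_le_normalizer _
  have hPC : (P : Subgroup G) ≤ C := by
    intro a ha
    rw [hC, Subgroup.mem_centralizer_iff]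
    intro b hb
    letI := IsCyclic.commGroup (α := (P : Subgroup G))
    exact congrArg Subtype.val (mul_comm (⟨b, hb⟩ : (P : Subgroup G)) ⟨a, ha⟩)
  set e := C.relIndex N with he
  -- `f = |N| / p = e c`
  obtain ⟨c, hc⟩ : ∃ c, Nat.card C = p * c := hP ▸ Subgroup.card_dvd_of_le hPC
  have hNcard : Nat.card N = p * (e * c) := by
    rw [he, Subgroup.relIndex, ← (C.subgroupOf N).index_mul_card,
      Nat.card_congr (Subgroup.subgroupOfEquivOfLe hCN).toEquiv, hc]
    ring
  have hc0 : 0 < c := Nat.pos_of_ne_zero fun h0 => by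
    rw [h0, mul_zero] at hc; exact Nat.card_pos.ne' hc
  -- the number of Sylow subgroups
  obtain ⟨k, hk⟩ : ∃ k, Nat.card (Sylow p G) = 1 + k * p := by
    refine ⟨Nat.card (Sylow p G) / p, ?_⟩
    have := card_sylow_modEq_one p G
    rw [Nat.ModEq, Nat.mod_eq_of_lt hp.one_lt] at this
    conv_lhs => rw [← Nat.mod_add_div (Nat.card (Sylow p G)) p, this]
    rw [mul_comm p]
  have hG : Nat.card G = p * (e * c * (1 + k * p)) := by
    have hidx : Nat.card (Sylow p G) = N.index := P.card_eq_index_normalizer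
    rw [← N.index_mul_card, hNcard, ← hidx, hk]; ring
  have hPne : (P : Subgroup G) ≠ ⊥ := fun h0 => by
    rw [h0, Subgroup.card_bot] at hP; exact hp.ne_one hP.symm
  have hPtop : (P : Subgroup G) ≠ ⊤ := fun h0 => by
    apply hna
    refine ⟨⟨fun a b => ?_⟩⟩
    letI := IsCyclic.commGroup (α := (P : Subgroup G))
    exact congrArg Subtype.val (mul_comm (⟨a, h0 ▸ Subgroup.mem_top a⟩ : (P : Subgroup G))
      ⟨b, h0 ▸ Subgroup.mem_top b⟩)
  have hPnn : ¬ (P : Subgroup G).Normal := fun h0 =>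
    (h0.eq_bot_or_eq_top).elim hPne hPtop
  have hk0 : 0 < k := Nat.pos_of_ne_zero fun h0 => by
    rw [h0, zero_mul, add_zero] at hk
    haveI := (Nat.card_eq_one_iff_unique.1 hk).1
    exact hPnn P.normal_of_subsingleton
  have he1 : e ≠ 1 := fun h1 => by
    have hle : N ≤ C := Subgroup.relIndex_eq_one.1 h1
    have hcomp := MonoidHom.ker_transferSylow_isComplement' P hle
    rcases (IsSimpleGroup.eq_bot_or_eq_top_of_normal (MonoidHom.transferSylow P hle).ker
      inferInstance) with h | h <;> rw [h] at hcomp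
    · exact hPtop (Subgroup.isComplement'_bot_left.1 hcomp)
    · exact hPne (Subgroup.isComplement'_top_left.1 hcomp)
  have he2 : 2 ≤ e := by
    have : e ≠ 0 := fun h0 => by
      rw [h0] at hNcard
      simp only [zero_mul, mul_zero] at hNcard
      exact Nat.card_pos.ne' hNcard
    omega
  by_contra hlt
  rw [not_le, hG] at hlt
  have hlt2 : 2 * (e * c * (1 + k * p)) < p ^ 2 - 1 := by
    have h3 : 2 * (p * (p ^ 2 - 1) / 2) ≤ p * (p ^ 2 - 1) := Nat.mul_div_le _ _
    refine Nat.lt_of_mul_lt_mul_left (a := p) ?_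
    calc p * (2 * (e * c * (1 + k * p))) = 2 * (p * (e * c * (1 + k * p))) := by ring
      _ < 2 * (p * (p ^ 2 - 1) / 2) := by omega
      _ ≤ _ := h3
  have hfk : 2 * (e * c) * k < p := by
    by_contra hge
    rw [not_lt] at hge
    have h4 : p * p ≤ 2 * (e * c) * k * p := Nat.mul_le_mul_right p hge
    have h5 : 2 * (e * c) * k * p ≤ 2 * (e * c * (1 + k * p)) := by ring_nf; omega
    rw [sq] at hlt2
    omega
  have hf : 2 * (e * c) < p :=
    lt_of_le_of_lt (Nat.le_mul_of_pos_right _ hk0) hfk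
  have hep : e + 1 < p := by
    have : e * 1 ≤ e * c := Nat.mul_le_mul_left e hc0
    omega
  -- the principal block
  obtain ⟨X, Y, hB, hXY, hX, hY, εX, ε, hXs, hε, hYd, -, hid⟩ :=
    Cfsg.Agent.S4441.result p M hM hodd P hP e rfl
  have hdiv : ∀ χ : IrrCharacter G, ¬ p ∣ Cfsg.charDegree (χ : G → ℂ) →
      ∃ v, Cfsg.charDegree (χ : G → ℂ) * v = e * c * (1 + k * p) := fun χ hnd => by
    obtain ⟨v, hv⟩ := ((hp.coprime_iff_not_dvd.2 hnd).symm).dvd_of_dvd_mul_left
      (hG ▸ charDegree_dvd_card χ)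
    exact ⟨v, hv.symm⟩
  have hYne : Y.Nonempty := by
    rw [← Set.ncard_pos, ← Nat.card_coe_set_eq, hY]
    exact Nat.div_pos (by omega) (by omega)
  have htriv : trivChar G ∈ X := by
    have : trivChar G ∈ X ∪ Y := hB ▸ trivChar_mem
    rcases this with h | h
    · exact h
    exfalso
    have h1 := hYd _ h
    have hd1 : Cfsg.charDegree ((trivChar G : IrrCharacter G) : G → ℂ) = 1 := by
      simp [Cfsg.charDegree]
    rw [hd1, Nat.cast_one] at h1
    rcases hε with rfl | rfl
    · obtain ⟨a, ha⟩ := Int.modEq_iff_dvd.1 h1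
      have hd : p ∣ e - 1 :=
        Int.natCast_dvd_natCast.1 ⟨a, by push_cast [Nat.cast_sub (by omega : 1 ≤ e)]; linarith⟩
      have := Nat.le_of_dvd (by omega : 0 < e - 1) hd
      omega
    · obtain ⟨a, ha⟩ := Int.modEq_iff_dvd.1 h1
      have hd : p ∣ e + 1 := Int.natCast_dvd_natCast.1 ⟨-a, by push_cast; linarith⟩
      have := Nat.le_of_dvd (by omega : 0 < e + 1) hd
      omega
  have hXdeg : ∀ χ ∈ X, εX χ * (Cfsg.charDegree (χ : G → ℂ) : ℤ) =
      if χ = trivChar G then 1 else 1 + (k : ℤ) * p := by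
    intro χ hχ
    obtain ⟨hs, hmod, -⟩ := hXs χ hχ
    have hnd : ¬ p ∣ Cfsg.charDegree (χ : G → ℂ) := fun h => by
      have h0 : (p : ℤ) ∣ εX χ := by
        have h1 := Int.modEq_iff_dvd.1 hmod
        have h2 := dvd_add h1 (Int.natCast_dvd_natCast.2 h)
        rwa [sub_add_cancel] at h2
      rcases hs with h' | h' <;> rw [h'] at h0
      · exact hp.one_lt.ne' (Nat.eq_one_of_dvd_one (Int.natCast_dvd_natCast.1 h0))
      · exact hp.one_lt.ne' (Nat.eq_one_of_dvd_one (Int.natCast_dvd_natCast.1 (dvd_neg.1 h0)))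
    obtain ⟨v, hv⟩ := hdiv χ hnd
    rcases hs with hs | hs
    · rw [hs] at hmod
      rw [hs, one_mul]
      split_ifs with ht
      · subst ht; simp [Cfsg.charDegree]
      · rcases degree_eq_of_mod_one hp hfk hf (by positivity) hv hmod with h | h
        · exact absurd (eq_trivChar_of_degree_one hna h) ht
        · rw [h]; push_cast; ring
    · rw [hs] at hmod
      exact (degree_mod_neg_one_false hp hf hlt2 (Nat.pos_of_ne_zero (charDegree_ne_zero χ))
        (by positivity) hv hmod).elim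
  obtain ⟨η, hη⟩ := hYne
  have hsum : ε * (Cfsg.charDegree (η : G → ℂ) : ℤ) = 1 + ((e : ℤ) - 1) * (1 + k * p) := by
    have h1 := hid η hη 1 (by rw [orderOf_one]; exact hp.not_dvd_one)
    rw [finsum_mem_eq_toFinset_sum] at h1
    have h3 : ε * (Cfsg.charDegree (η : G → ℂ) : ℤ) =
        ∑ χ ∈ X.toFinset, εX χ * (Cfsg.charDegree (χ : G → ℂ) : ℤ) := by
      apply Int.cast_injective (α := ℂ)
      push_cast
      simp only [charDegree_cast]
      exact h1
    rw [h3, Finset.sum_congr rfl fun χ hχ => hXdeg χ (Set.mem_toFinset.1 hχ),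
      ← Finset.add_sum_erase _ _ (Set.mem_toFinset.2 htriv), if_pos rfl,
      Finset.sum_congr rfl fun χ hχ => if_neg (Finset.ne_of_mem_erase hχ), Finset.sum_const,
      Finset.card_erase_of_mem (Set.mem_toFinset.2 htriv), ← Set.ncard_eq_toFinset_card',
      ← Nat.card_coe_set_eq, hX, nsmul_eq_mul, Nat.cast_sub (by omega : 1 ≤ e)]
    push_cast; ring
  have hkp : (0 : ℤ) ≤ (k : ℤ) * p := by positivity
  have hε1 : ε = 1 := by
    rcases hε with h | h
    · exact h
    rw [h] at hsum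
    have : (0 : ℤ) ≤ ((e : ℤ) - 1) * (1 + k * p) := mul_nonneg (by omega) (by omega)
    omega
  rw [hε1, one_mul] at hsum
  have hmodY := hYd η hη
  rw [hε1, one_mul] at hmodY
  have hnd : ¬ p ∣ Cfsg.charDegree (η : G → ℂ) := fun h => by
    have h1 := dvd_add (Int.modEq_iff_dvd.1 hmodY) (Int.natCast_dvd_natCast.2 h)
    rw [sub_add_cancel] at h1
    have := Nat.le_of_dvd (by omega : 0 < e) (Int.natCast_dvd_natCast.1 h1)
    omega
  obtain ⟨v, hv⟩ := hdiv η hnd
  have hdY := degree_eq_of_mod hp he2 hf hc0 hv hmodY (by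
    rw [← Int.ofNat_lt]; push_cast [Nat.cast_sub (by omega : 1 ≤ e)]; omega)
  rw [hdY] at hsum
  push_cast at hsum
  have : (k : ℤ) * p = 0 := by linarith
  have : (0 : ℤ) < (k : ℤ) * p := by positivity
  omega

end CfsgLib.SylowPrimeOrder
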