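import Cfsg.Agent.SylowPrimeOrder.Simple
import Cfsg.Agent.LocalStructure.PClosed

/-!
# The least order of a group with non-normal Sylow `p`-subgroups: the lower bound
-/

set_option autoImplicit false
set_option linter.style.haveILetI false
set_option linter.unusedSectionVars false

namespace CfsgLib.SylowPrimeOrder

open Cfsg Subgroup

variable {G : Type} [Group G] [Finite G] {p : ℕ} [Fact p.Prime]

/-- A normal subgroup with normal Sylow subgroup of order that of `G`'s contains no Sylow
subgroup of `G` if the latter is not normal. -/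
theorem not_sylow_le_of_isPClosed {P : Sylow p G} (hP : ¬ (P : Subgroup G).Normal) {N : Subgroup G}
    [N.Normal] (h : IsPClosed p ↥N) : ¬ (P : Subgroup G) ≤ N := fun hle => hP (by
  have e : (P : Subgroup G) = pCore p G := le_antisymm
    (fun a ha => LocalStructure.mem_pCore_of_isPClosed_normal h (hle ha)
      (LocalStructure.isPEl_of_mem P.2 ha))
    (LocalStructure.pCore_le_sylow P)
  exact e ▸ LocalStructure.pCore_normal)

/-- In a minimal group with non-normal Sylow `p`-subgroup of order `p`, every proper normal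
subgroup is a `p'`-group that, with `P`, generates the group. -/
theorem normal_facts (hsub : ∀ K : Subgroup G, K ≠ ⊤ → IsPClosed p ↥K) {P : Sylow p G}
    (hP : Nat.card (P : Subgroup G) = p) (hPn : ¬ (P : Subgroup G).Normal) {N : Subgroup G}
    [N.Normal] (hN : N ≠ ⊤) (hquot : IsPClosed p (G ⧸ N)) :
    ¬ p ∣ Nat.card N ∧ N.index = p := by
  have hnd : ¬ p ∣ Nat.card N := fun hd => by
    obtain ⟨x, hx⟩ := exists_prime_orderOf_dvd_card' p hd
    have hx' : orderOf (x : G) = p := by rw [orderOf_coe, hx]
    have hZ : IsPGroup p (zpowers (x : G)) :=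
      IsPGroup.of_card (n := 1) (by rw [Nat.card_zpowers, hx', pow_one])
    obtain ⟨Q, hQ⟩ := hZ.exists_le_sylow
    have hQn : ¬ (Q : Subgroup G).Normal := fun h => hPn (by
      haveI := (Sylow.unique_of_normal Q h).instSubsingleton
      exact Subsingleton.elim Q P ▸ h)
    have e : zpowers (x : G) = Q :=
      eq_of_le_of_card_ge hQ (by
        rw [Nat.card_zpowers, hx', Q.card_eq_multiplicity, ← P.card_eq_multiplicity, hP])
    exact not_sylow_le_of_isPClosed hQn (hsub N hN) (e ▸ zpowers_le.2 x.2)
  refine ⟨hnd, ?_⟩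
  let π := QuotientGroup.mk' N
  haveI hn' := hquot (P.mapSurjective (QuotientGroup.mk'_surjective N))
  have hnormal : (N ⊔ (P : Subgroup G)).Normal := by
    rw [sup_comm, ← QuotientGroup.ker_mk' N, ← comap_map_eq]
    exact hn'.comap π
  have htop : N ⊔ (P : Subgroup G) = ⊤ := by
    by_contra h
    exact not_sylow_le_of_isPClosed hPn (hsub _ h) le_sup_right
  have hdisj : Disjoint N (P : Subgroup G) := by
    rw [disjoint_iff]
    apply eq_bot_of_card_eq
    have h1 : Nat.card ↥(N ⊓ (P : Subgroup G)) ∣ p := (card_dvd_of_le inf_le_right).trans (dvd_of_eq hP)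
    rcases (Nat.dvd_prime Fact.out).1 h1 with h | h
    · exact h
    · refine absurd ?_ hnd
      rw [← h]
      exact card_dvd_of_le inf_le_left
  have hc : IsComplement' N (P : Subgroup G) := isComplement'_of_disjoint_and_mul_eq_univ hdisj (by
    rw [← normal_mul, htop, coe_top])
  rw [hc.symm.index_eq_card, hP]

/-- A group with non-normal Sylow `p`-subgroups has order at least
`min (p m) (p (p ^ 2 - 1) / 2)`. -/
theorem least_order_bound (hp2 : p ≠ 2) {m : ℕ}
    (hleast : ∀ k : ℕ, IsPrimePow k → k % p = 1 → m ≤ k) :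
    ∀ (n : ℕ) (H : Type) [Group H] [Finite H], Nat.card H = n → ¬ IsPClosed p H →
      min (p * m) (p * (p ^ 2 - 1) / 2) ≤ n := by
  intro n
  induction n using Nat.strong_induction_on with
  | _ n ih =>
  intro H _ _ hn hnc
  subst hn
  have hp : p.Prime := Fact.out
  by_cases hsub : ∀ K : Subgroup H, K ≠ ⊤ → IsPClosed p ↥K
  swap
  · push Not at hsub
    obtain ⟨K, hK, hK'⟩ := hsub
    have hlt : Nat.card K < Nat.card H :=
      lt_of_le_of_ne K.card_le_card_group fun h => hK (card_eq_iff_eq_top K |>.1 h)
    exact (ih _ hlt K rfl hK').trans hlt.le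
  by_cases hquot : ∀ (N : Subgroup H) [N.Normal], N ≠ ⊥ → IsPClosed p (H ⧸ N)
  swap
  · push Not at hquot
    obtain ⟨N, hNn, hN, hN'⟩ := hquot
    have hlt : Nat.card (H ⧸ N) < Nat.card H := by
      rw [N.card_eq_card_quotient_mul_card_subgroup]
      exact lt_mul_of_one_lt_right Nat.card_pos (one_lt_card_iff_ne_bot N |>.2 hN)
    exact (ih _ hlt _ rfl hN').trans hlt.le
  obtain ⟨P, hPn⟩ := not_forall.1 hnc
  haveI := Fintype.ofFinite H
  -- the number of Sylow subgroups
  have hs1 : 1 < Nat.card (Sylow p H) := by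
    by_contra hle
    have : Nat.card (Sylow p H) = 1 := by have := Nat.card_pos (α := Sylow p H); omega
    haveI := (Nat.card_eq_one_iff_unique.1 this).1
    exact hPn P.normal_of_subsingleton
  have hmod : Nat.card (Sylow p H) % p = 1 := by
    have := card_sylow_modEq_one p H
    rwa [Nat.ModEq, Nat.mod_eq_of_lt hp.one_lt] at this
  have hsp : p + 1 ≤ Nat.card (Sylow p H) := by
    have := Nat.div_add_mod (Nat.card (Sylow p H)) p
    have : 0 < Nat.card (Sylow p H) / p := Nat.pos_of_ne_zero fun h0 => by
      rw [h0, mul_zero, hmod] at this; omega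
    have : p * 1 ≤ p * (Nat.card (Sylow p H) / p) := Nat.mul_le_mul_left p this
    omega
  have hcard : Nat.card (P : Subgroup H) * Nat.card (Sylow p H) ≤ Nat.card H := by
    rw [P.card_eq_index_normalizer]
    calc Nat.card (P : Subgroup H) * _
        ≤ Nat.card (normalizer ((P : Subgroup H) : Set H)) *
            (normalizer ((P : Subgroup H) : Set H)).index :=
          Nat.mul_le_mul_right _ (Nat.le_of_dvd Nat.card_pos (card_dvd_of_le le_normalizer))
      _ = _ := card_mul_index _
  have hPne : (P : Subgroup H) ≠ ⊥ := fun h0 => hPn (by rw [h0]; infer_instance)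
  obtain ⟨a, ha⟩ := P.2.exists_card_eq
  rcases Nat.lt_or_ge a 2 with ha2 | ha2
  swap
  · -- a Sylow subgroup of order at least `p ^ 2`
    refine (min_le_right _ _).trans ((Nat.div_le_self _ 2).trans ?_)
    refine le_trans ?_ hcard
    rw [ha]
    calc p * (p ^ 2 - 1) ≤ p ^ 2 * (p + 1) := by
          calc p * (p ^ 2 - 1) ≤ p * p ^ 2 := Nat.mul_le_mul_left p (Nat.sub_le _ _)
            _ ≤ _ := by rw [mul_comm p]; exact Nat.mul_le_mul_left _ (Nat.le_succ p)
      _ ≤ p ^ a * Nat.card (Sylow p H) :=
          Nat.mul_le_mul (Nat.pow_le_pow_right hp.pos ha2) hsp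
  have ha1 : a = 1 := by
    rcases Nat.eq_zero_or_pos a with h | h
    · rw [h, pow_zero] at ha; exact absurd (eq_bot_of_card_eq _ ha) hPne
    · omega
  rw [ha1, pow_one] at ha
  by_cases hsimp : ∀ N : Subgroup H, N.Normal → N = ⊥ ∨ N = ⊤
  · haveI : Nontrivial H :=
      Finite.one_lt_card_iff_nontrivial.1 (lt_of_lt_of_le (by
        rw [ha]; exact one_lt_mul hp.one_le hs1) hcard)
    haveI : IsSimpleGroup H := ⟨fun N hN => hsimp N hN⟩
    refine (min_le_right _ _).trans (simple_bound hp2 (fun hc => hPn ?_) P ha)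
    exact ⟨fun a ha b => by rw [hc.1.comm b a, mul_inv_cancel_right]; exact ha⟩
  push Not at hsimp
  obtain ⟨N, hNn, hN1, hN2⟩ := hsimp
  haveI := hNn
  obtain ⟨hnd, hidx⟩ := normal_facts hsub ha hPn hN2 (hquot N hN1)
  rw [ha] at hcard
  refine (min_le_left _ _).trans ((Nat.mul_le_mul_left p (hleast _ ?_ hmod)).trans hcard)
  -- `N` is an `r`-group
  have hsN : Nat.card (Sylow p H) ∣ Nat.card N := by
    have h1 : Nat.card (Sylow p H) ∣ (P : Subgroup H).index := P.card_dvd_index
    have h2 : p * (P : Subgroup H).index = p * Nat.card N := by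
      have h3 := card_mul_index (P : Subgroup H)
      rw [ha, ← N.card_mul_index, hidx] at h3
      rw [h3, mul_comm]
    rwa [Nat.eq_of_mul_eq_mul_left hp.pos h2] at h1
  have hN' : IsPrimePow (Nat.card N) := by
    by_contra hnp
    refine hPn (normalizer_eq_top_iff.1 ((card_eq_iff_eq_top _).1 (Nat.dvd_antisymm
      (card_subgroup_dvd_card _) ?_)))
    set NP := normalizer ((P : Subgroup H) : Set H) with hNP
    rw [← N.card_mul_index, hidx]
    refine Nat.Coprime.mul_dvd_of_dvd_of_dvd ((hp.coprime_iff_not_dvd.2 hnd).symm) ?_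
      (by conv_lhs => rw [← ha]
          exact card_dvd_of_le le_normalizer)
    rw [← Nat.factorization_le_iff_dvd Nat.card_pos.ne' Nat.card_pos.ne']
    intro r
    by_cases hr : r.Prime
    swap
    · simp [Nat.factorization_eq_zero_of_not_prime _ hr]
    haveI := Fact.mk hr
    let R : Sylow r N := default
    set R' := (R : Subgroup N).map N.subtype with hR'
    have hR'c : Nat.card R' = r ^ (Nat.card N).factorization r := by
      rw [hR', card_subtype, R.card_eq_multiplicity]
    rcases Nat.eq_zero_or_pos ((Nat.card N).factorization r) with h0 | h0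
    · simp [h0]
    rw [← hr.pow_dvd_iff_le_factorization Nat.card_pos.ne', ← hR'c]
    -- `R` is not normal
    have hR'n : ¬ R'.Normal := fun hn' => by
      have hR'1 : R' ≠ ⊥ := fun h => by
        rw [h, card_bot] at hR'c
        exact (Nat.one_lt_pow h0.ne' hr.one_lt).ne hR'c
      have hR'2 : R' ≠ ⊤ := fun h => hN2 (top_le_iff.1 (h ▸ map_subtype_le _))
      obtain ⟨-, hidx'⟩ := normal_facts hsub ha hPn hR'2 (hquot R' hR'1)
      have : Nat.card N = Nat.card R' := by
        have h1 := N.card_mul_index
        rw [← R'.card_mul_index, hidx, hidx'] at h1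
        exact Nat.eq_of_mul_eq_mul_right hp.pos h1
      exact hnp (this ▸ hR'c ▸ hr.isPrimePow.pow h0.ne')
    -- its normalizer contains a Sylow `p`-subgroup, which it centralizes
    set K := normalizer (R' : Set H) with hK
    have hKtop : K ≠ ⊤ := fun h => hR'n (normalizer_eq_top_iff.1 h)
    have hfr : K ⊔ N = ⊤ := Sylow.normalizer_sup_eq_top R
    have hKc := hsub K hKtop
    have hdvd : p ∣ Nat.card K := by
      rw [← hidx, ← relIndex_top_right, ← hfr, relIndex_sup_right]
      exact relIndex_dvd_card N K
    obtain ⟨x, hx⟩ := exists_prime_orderOf_dvd_card' p hdvd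
    have hx' : orderOf (x : H) = p := by rw [orderOf_coe, hx]
    let Q : Sylow p H := Sylow.ofCard (zpowers (x : H)) (by
      rw [Nat.card_zpowers, hx', ← P.card_eq_multiplicity, ha])
    have hQc : (zpowers x).map K.subtype = (Q : Subgroup H) := by
      rw [Sylow.coe_ofCard, MonoidHom.map_zpowers]; rfl
    have hZn : (zpowers x).Normal := by
      have hcx : Nat.card (zpowers x) = p ^ (Nat.card K).factorization p := by
        rw [Nat.card_zpowers, hx]
        have h1 : (Nat.card K).factorization p ≤ 1 := by
          have h2 : (Nat.card K).factorization p ≤ (Nat.card H).factorization p :=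
            Finsupp.le_def.1 ((Nat.factorization_le_iff_dvd Nat.card_pos.ne'
              Nat.card_pos.ne').2 (card_subgroup_dvd_card K)) p
          have h3 : p ^ (Nat.card H).factorization p = p ^ 1 := by
            rw [← P.card_eq_multiplicity, ha, pow_one]
          rw [Nat.pow_right_injective hp.two_le h3] at h2
          exact h2
        have h4 := hp.factorization_pos_of_dvd Nat.card_pos.ne' hdvd
        rw [show (Nat.card K).factorization p = 1 by omega, pow_one]
      simpa using hKc (Sylow.ofCard (zpowers x) hcx)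
    have hKQ : K ≤ normalizer ((Q : Subgroup H) : Set H) := by
      rw [← hQc]
      have h1 := le_normalizer_map (H := zpowers x) K.subtype
      rwa [normalizer_eq_top_iff.2 hZn, ← MonoidHom.range_eq_map, K.range_subtype] at h1
    have hRQ : R' ≤ normalizer ((Q : Subgroup H) : Set H) := le_normalizer.trans hKQ
    -- conjugate normalizers have equal orders
    have hNQ : Nat.card (normalizer ((Q : Subgroup H) : Set H)) = Nat.card NP := by
      refine Nat.eq_of_mul_eq_mul_right (Nat.pos_of_ne_zero NP.index_ne_zero_of_finite) ?_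
      have h1 : (normalizer ((Q : Subgroup H) : Set H)).index = NP.index :=
        Q.card_eq_index_normalizer.symm.trans P.card_eq_index_normalizer
      conv_lhs => rw [← h1]
      rw [card_mul_index, card_mul_index]
    exact hNQ ▸ card_dvd_of_le hRQ
  obtain ⟨r, i, hr, hi, hri⟩ := (isPrimePow_nat_iff _).1 hN'
  obtain ⟨j, -, hj⟩ := (Nat.dvd_prime_pow hr).1 (hri ▸ hsN)
  refine (isPrimePow_nat_iff _).2 ⟨r, j, hr, Nat.pos_of_ne_zero fun h => ?_, hj.symm⟩
  rw [h, pow_zero] at hj
  omega

end CfsgLib.SylowPrimeOrder
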