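import Cfsg.Agent.Linear.Basic
import Cfsg.Prelude.Def_LocalStructure
import Mathlib.GroupTheory.SemidirectProduct
import Mathlib.FieldTheory.Finite.GaloisField
import Mathlib.LinearAlgebra.Matrix.SpecialLinearGroup

/-!
# Small groups with non-normal Sylow `p`-subgroups
-/

set_option autoImplicit false
set_option linter.style.haveILetI false
set_option linter.unusedSectionVars false

namespace CfsgLib.SylowPrimeOrder

open Cfsg Subgroup

variable (p : ℕ) [Fact p.Prime]

/-- The multiplicative group acting on the additive group of a field. -/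
noncomputable def scaleHom (F : Type) [Field F] : Fˣ →* MulAut (Multiplicative F) where
  toFun u := AddEquiv.toMultiplicative (AddAut.mulLeft u)
  map_one' := by ext x; exact congrArg Multiplicative.ofAdd (one_mul x.toAdd)
  map_mul' u v := by ext x; exact congrArg Multiplicative.ofAdd (mul_assoc (u : F) (v : F) x.toAdd)

@[simp] theorem scaleHom_apply (F : Type) [Field F] (u : Fˣ) (x : Multiplicative F) :
    scaleHom F u x = Multiplicative.ofAdd ((u : F) * x.toAdd) := rfl

theorem exists_affine {m : ℕ} (hm : IsPrimePow m) (hm1 : m % p = 1) :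
    ∃ (H : Type) (_ : Group H) (_ : Finite H), Nat.card H = p * m ∧ ¬ IsPClosed p H := by
  obtain ⟨r, i, hr, hi, hri⟩ := (isPrimePow_nat_iff _).1 hm
  haveI := Fact.mk hr
  let F := GaloisField r i
  haveI : Finite F := Nat.finite_of_card_ne_zero (by
    rw [GaloisField.card r i hi.ne']; exact (pow_pos hr.pos i).ne')
  have hF : Nat.card F = m := by rw [GaloisField.card r i hi.ne', hri]
  have hu : p ∣ Nat.card Fˣ := by
    rw [Nat.card_units, hF]
    exact ⟨m / p, by have := Nat.div_add_mod m p; omega⟩
  obtain ⟨z, hz⟩ := exists_prime_orderOf_dvd_card' p hu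
  let φ : zpowers z →* MulAut (Multiplicative F) := (scaleHom F).comp (zpowers z).subtype
  haveI : Finite (Multiplicative F ⋊[φ] zpowers z) :=
    Finite.of_equiv _ SemidirectProduct.equivProd.symm
  refine ⟨Multiplicative F ⋊[φ] zpowers z, inferInstance, inferInstance, ?_, fun hc => ?_⟩
  · rw [SemidirectProduct.card, Nat.card_zpowers, hz, mul_comm]
    exact congrArg _ hF
  have hmp : ¬ p ∣ m := fun h => by
    rw [Nat.mod_eq_zero_of_dvd h] at hm1; omega
  have hcard : Nat.card (Multiplicative F ⋊[φ] zpowers z) = m * p := by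
    rw [SemidirectProduct.card, Nat.card_zpowers, hz]
    exact congrArg (· * p) hF
  set S : Subgroup (Multiplicative F ⋊[φ] zpowers z) := SemidirectProduct.inr.range with hS
  have hScard : Nat.card S = p ^ (Nat.card (Multiplicative F ⋊[φ] zpowers z)).factorization p := by
    rw [hcard, Nat.factorization_mul (fun h => hmp (by rw [h]; exact dvd_zero p)) (Fact.out : p.Prime).ne_zero,
      Finsupp.add_apply, Nat.factorization_eq_zero_of_not_dvd hmp,
      (Fact.out : p.Prime).factorization_self, zero_add, pow_one, hS, MonoidHom.range_eq_map,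
      card_map_of_injective SemidirectProduct.inr_injective, card_top, Nat.card_zpowers, hz]
  have hn : S.Normal := by simpa using hc (Sylow.ofCard S hScard)
  let z' : zpowers z := ⟨z, mem_zpowers z⟩
  have h1 := hn.conj_mem (SemidirectProduct.inr z') ⟨z', rfl⟩
    (SemidirectProduct.inl (Multiplicative.ofAdd (1 : F)))
  obtain ⟨y, hy⟩ := h1
  have h2 := congrArg (fun w => SemidirectProduct.left w) hy
  simp [φ, z', SemidirectProduct.mul_left, SemidirectProduct.mul_right] at h2
  replace h2 := congrArg Multiplicative.toAdd h2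
  simp only [toAdd_mul, toAdd_ofAdd, toAdd_one] at h2
  have hz1 : (z : F) = 1 := by
    rw [← sub_eq_zero]
    first
      | linear_combination h2
      | linear_combination -h2
  have : orderOf z = 1 := orderOf_eq_one_iff.2 (Units.ext hz1)
  exact (Fact.out : p.Prime).ne_one (hz.symm.trans this)

theorem exists_psl (hp2 : p ≠ 2) :
    ∃ (H : Type) (_ : Group H) (_ : Finite H),
      Nat.card H = p * (p ^ 2 - 1) / 2 ∧ ¬ IsPClosed p H := by
  have hp : p.Prime := Fact.out
  let F := ZMod p
  haveI : Finite (Matrix.ProjectiveSpecialLinearGroup (Fin 2) F) := Quotient.finite _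
  refine ⟨Matrix.ProjectiveSpecialLinearGroup (Fin 2) F, inferInstance, inferInstance, ?_, fun hc => ?_⟩
  · have h := CfsgLib.Linear.card_PSL_two_odd (F := F) (by
      rw [ZMod.card]; exact hp.odd_of_ne_two hp2)
    rw [ZMod.card] at h
    rw [← h, Nat.mul_div_cancel_left _ two_pos]
  set G := Matrix.ProjectiveSpecialLinearGroup (Fin 2) F
  have hcard : (Nat.card G).factorization p = 1 := by
    have h := CfsgLib.Linear.card_PSL_two_odd (F := F) (by
      rw [ZMod.card]; exact hp.odd_of_ne_two hp2)
    rw [ZMod.card] at h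
    have hnd : ¬ p ∣ p ^ 2 - 1 := fun hd => by
      have h1 : p ∣ p ^ 2 := dvd_pow_self p two_ne_zero
      have h2 := Nat.dvd_sub h1 hd
      rw [Nat.sub_sub_self (Nat.one_le_pow _ _ hp.pos)] at h2
      exact hp.not_dvd_one h2
    have h3 := congrArg (fun n => n.factorization p) h
    simp only [Nat.factorization_mul two_ne_zero Nat.card_pos.ne',
      Nat.factorization_mul hp.ne_zero (fun h0 : p ^ 2 - 1 = 0 => hnd (by rw [h0]; exact dvd_zero p)),
      Finsupp.add_apply, hp.factorization_self, Nat.factorization_eq_zero_of_not_dvd hnd,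
      Nat.factorization_eq_zero_of_not_dvd (fun hd : p ∣ 2 => hp2
        ((Nat.prime_dvd_prime_iff_eq hp Nat.prime_two).1 hd)), zero_add, add_zero] at h3
    exact h3
  let u : Matrix.SpecialLinearGroup (Fin 2) F := ⟨!![1, 1; 0, 1], by simp [Matrix.det_fin_two]⟩
  let v : Matrix.SpecialLinearGroup (Fin 2) F := ⟨!![1, 0; 1, 1], by simp [Matrix.det_fin_two]⟩
  have hpow : ∀ n : ℕ, ((u ^ n : Matrix.SpecialLinearGroup (Fin 2) F) : Matrix (Fin 2) (Fin 2) F) =
      !![1, (n : F); 0, 1] := by
    intro n
    induction n with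
    | zero => ext i j; fin_cases i <;> fin_cases j <;> simp
    | succ n ih =>
      rw [pow_succ, Matrix.SpecialLinearGroup.coe_mul, ih]
      ext i j
      fin_cases i <;> fin_cases j <;> simp [u, Matrix.mul_apply, Fin.sum_univ_two, add_comm]
  have hpow' : ∀ n : ℕ, ((v ^ n : Matrix.SpecialLinearGroup (Fin 2) F) : Matrix (Fin 2) (Fin 2) F) =
      !![1, 0; (n : F), 1] := by
    intro n
    induction n with
    | zero => ext i j; fin_cases i <;> fin_cases j <;> simp
    | succ n ih =>
      rw [pow_succ, Matrix.SpecialLinearGroup.coe_mul, ih]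
      ext i j
      fin_cases i <;> fin_cases j <;> simp [v, Matrix.mul_apply, Fin.sum_univ_two, add_comm]
  let π := QuotientGroup.mk' (Subgroup.center (Matrix.SpecialLinearGroup (Fin 2) F))
  have hord : ∀ w : Matrix.SpecialLinearGroup (Fin 2) F, w ^ p = 1 →
      w ∉ Subgroup.center (Matrix.SpecialLinearGroup (Fin 2) F) →
      Nat.card (zpowers (π w)) = p := by
    intro w h1 h2
    rw [Nat.card_zpowers]
    refine orderOf_eq_prime (by rw [← map_pow, h1, map_one]) fun h3 => h2 ?_
    rwa [QuotientGroup.mk'_apply, QuotientGroup.eq_one_iff] at h3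
  have hu1 : u ^ p = 1 := Subtype.ext (by
    rw [hpow]; ext i j; fin_cases i <;> fin_cases j <;> simp [F])
  have hv1 : v ^ p = 1 := Subtype.ext (by
    rw [hpow']; ext i j; fin_cases i <;> fin_cases j <;> simp [F])
  have huc : u ∉ Subgroup.center (Matrix.SpecialLinearGroup (Fin 2) F) := fun h => by
    have := congrArg (fun w : Matrix.SpecialLinearGroup (Fin 2) F =>
      (w : Matrix (Fin 2) (Fin 2) F) 0 0) ((Subgroup.mem_center_iff.1 h) v)
    rw [Matrix.SpecialLinearGroup.coe_mul, Matrix.SpecialLinearGroup.coe_mul, Matrix.mul_apply, Matrix.mul_apply, Fin.sum_univ_two, Fin.sum_univ_two] at this; simp [u, v] at this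
  have hvc : v ∉ Subgroup.center (Matrix.SpecialLinearGroup (Fin 2) F) := fun h => by
    have := congrArg (fun w : Matrix.SpecialLinearGroup (Fin 2) F =>
      (w : Matrix (Fin 2) (Fin 2) F) 0 0) ((Subgroup.mem_center_iff.1 h) u)
    rw [Matrix.SpecialLinearGroup.coe_mul, Matrix.SpecialLinearGroup.coe_mul, Matrix.mul_apply, Matrix.mul_apply, Fin.sum_univ_two, Fin.sum_univ_two] at this; simp [u, v] at this
  let U : Sylow p G := Sylow.ofCard (zpowers (π u)) (by rw [hord u hu1 huc, hcard, pow_one])
  let V : Sylow p G := Sylow.ofCard (zpowers (π v)) (by rw [hord v hv1 hvc, hcard, pow_one])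
  haveI := (Sylow.unique_of_normal U (hc U)).instSubsingleton
  have hUV : U = V := Subsingleton.elim _ _
  have hmem : π v ∈ zpowers (π u) := by
    have h : (V : Subgroup G) = zpowers (π v) := Sylow.coe_ofCard _ _
    rw [← hUV, Sylow.coe_ofCard] at h
    rw [h]
    exact mem_zpowers _
  rw [← (isOfFinOrder_of_finite (π u)).mem_powers_iff_mem_zpowers] at hmem
  obtain ⟨n, hn⟩ := hmem
  simp only [π, QuotientGroup.mk'_apply, ← QuotientGroup.mk_pow] at hn
  have hz := Subgroup.mem_center_iff.1 (QuotientGroup.eq.1 hn) u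
  have hnv : ((u ^ n)⁻¹ * v) * u = u * ((u ^ n)⁻¹ * v) := hz.symm
  have hcomm : v * u = u * v := by
    have h1 : (u ^ n)⁻¹ * (v * u) = (u ^ n)⁻¹ * (u * v) := by
      rw [← mul_assoc, hnv, ← mul_assoc, ← mul_assoc,
        ((Commute.refl u).pow_right n).inv_right.eq]
    exact mul_left_cancel h1
  have := congrArg (fun w : Matrix.SpecialLinearGroup (Fin 2) F =>
    (w : Matrix (Fin 2) (Fin 2) F) 0 0) hcomm
  rw [Matrix.SpecialLinearGroup.coe_mul, Matrix.SpecialLinearGroup.coe_mul, Matrix.mul_apply, Matrix.mul_apply, Fin.sum_univ_two, Fin.sum_univ_two] at this; simp [u, v] at this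

end CfsgLib.SylowPrimeOrder
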